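import Groth.Agent.Pi1Inv.Glue
import Groth.Agent.Pi1Inv.Thickening
import Groth.Prelude.Def_FSch4

/-!
Étale covers of an adic system of thickenings and of its smallest level.
-/

universe u

set_option autoImplicit false
set_option backward.isDefEq.respectTransparency false
set_option backward.defeqAttrib.useBackward true

open CategoryTheory CategoryTheory.Limits AlgebraicGeometry

namespace Groth.FSchEtCov

variable {𝔛 : FSch.Sys.{u}}

section Hom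

variable {R R' : FSch.EtCov 𝔛}

theorem existsUnique_succ (h𝔛 : 𝔛.IsFormal) (n : ℕ)
    (φ : R.obj.left.X n ⟶ R'.obj.left.X n)
    (hφ : φ ≫ (R'.obj.hom : FSch.Hom _ _).app n = (R.obj.hom : FSch.Hom _ _).app n) :
    ∃! ψ : R.obj.left.X (n + 1) ⟶ R'.obj.left.X (n + 1),
      ψ ≫ (R'.obj.hom : FSch.Hom _ _).app (n + 1) = (R.obj.hom : FSch.Hom _ _).app (n + 1) ∧
        R.obj.left.ι n ≫ ψ = φ ≫ R'.obj.left.ι n := by
  haveI := (h𝔛 n).1
  haveI : Surjective (𝔛.ι n) := ⟨(h𝔛 n).2⟩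
  haveI : IsClosedImmersion (R.obj.left.ι n) :=
    MorphismProperty.of_isPullback (R.property.1 n).flip ‹IsClosedImmersion (𝔛.ι n)›
  haveI : Surjective (R.obj.left.ι n) :=
    MorphismProperty.of_isPullback (R.property.1 n).flip ‹Surjective (𝔛.ι n)›
  haveI : Etale ((R'.obj.hom : FSch.Hom _ _).app (n + 1)) := (R'.property.2 (n + 1)).2
  refine Pi1Inv.existsUnique_extend (R.obj.left.ι n) _ _ (φ ≫ R'.obj.left.ι n) ?_
  rw [Category.assoc, (R'.property.1 n).w, ← Category.assoc, hφ]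
  exact (R.property.1 n).w.symm

/-- Compatible extension of a morphism at the smallest level to all levels. -/
noncomputable def extendHom (h𝔛 : 𝔛.IsFormal)
    (φ : (FSch.EtCov.level 𝔛 0).obj R ⟶ (FSch.EtCov.level 𝔛 0).obj R') :
    ∀ n, {ψ : R.obj.left.X n ⟶ R'.obj.left.X n //
      ψ ≫ (R'.obj.hom : FSch.Hom _ _).app n = (R.obj.hom : FSch.Hom _ _).app n}
  | 0 => ⟨φ.left, MorphismProperty.Over.w φ⟩
  | n + 1 => ⟨(existsUnique_succ h𝔛 n _ (extendHom h𝔛 φ n).2).exists.choose,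
      (existsUnique_succ h𝔛 n _ (extendHom h𝔛 φ n).2).exists.choose_spec.1⟩

theorem extendHom_comm (h𝔛 : 𝔛.IsFormal)
    (φ : (FSch.EtCov.level 𝔛 0).obj R ⟶ (FSch.EtCov.level 𝔛 0).obj R') (n : ℕ) :
    (extendHom h𝔛 φ n).1 ≫ R'.obj.left.ι n =
      R.obj.left.ι n ≫ (extendHom h𝔛 φ (n + 1)).1 :=
  (existsUnique_succ h𝔛 n _ (extendHom h𝔛 φ n).2).exists.choose_spec.2.symm

theorem full (h𝔛 : 𝔛.IsFormal) : (FSch.EtCov.level 𝔛 0).Full where
  map_surjective {R R'} φ := by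
    let f : R.obj.left ⟶ R'.obj.left :=
      ⟨fun n ↦ (extendHom h𝔛 φ n).1, extendHom_comm h𝔛 φ⟩
    have hf : f ≫ R'.obj.hom = R.obj.hom :=
      FSch.Hom.ext (funext fun n ↦ (extendHom h𝔛 φ n).2)
    exact ⟨ObjectProperty.homMk (Over.homMk f hf), by ext1; rfl⟩

theorem faithful (h𝔛 : 𝔛.IsFormal) : (FSch.EtCov.level 𝔛 0).Faithful where
  map_injective {R R'} a b hab := by
    refine ObjectProperty.hom_ext _ (Over.OverMorphism.ext (FSch.Hom.ext (funext fun n ↦ ?_)))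
    induction n with
    | zero => exact congrArg (MorphismProperty.Over.forget FEt.prop.{u} ⊤ (𝔛.X 0) ⋙ Over.forget _).map hab
    | succ n ih =>
      have wa : ∀ m, (a.hom.left : FSch.Hom _ _).app m ≫ (R'.obj.hom : FSch.Hom _ _).app m =
          (R.obj.hom : FSch.Hom _ _).app m := fun m ↦ by rw [← FSch.comp_app, Over.w a.hom]
      have wb : ∀ m, (b.hom.left : FSch.Hom _ _).app m ≫ (R'.obj.hom : FSch.Hom _ _).app m =
          (R.obj.hom : FSch.Hom _ _).app m := fun m ↦ by rw [← FSch.comp_app, Over.w b.hom]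
      refine (existsUnique_succ h𝔛 n _ (wa n)).unique
        ⟨wa (n + 1), ((a.hom.left : FSch.Hom _ _).comm n).symm⟩ ⟨wb (n + 1), ?_⟩
      rw [ih]
      exact ((b.hom.left : FSch.Hom _ _).comm n).symm

end Hom

theorem exists_succ (h𝔛 : 𝔛.IsFormal) (n : ℕ) (B : FEt.Cat (𝔛.X n)) :
    ∃ (C : FEt.Cat (𝔛.X (n + 1))) (b : B.left ⟶ C.left),
      IsPullback b B.hom C.hom (𝔛.ι n) := by
  haveI := (h𝔛 n).1
  haveI : Surjective (𝔛.ι n) := ⟨(h𝔛 n).2⟩
  haveI := Pi1Inv.isEquivalence_of_thickening (𝔛.ι n)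
  obtain ⟨C, ⟨e⟩⟩ := Functor.EssSurj.mem_essImage (F := FEt.restrict (𝔛.ι n)) B
  let e' : pullback C.hom (𝔛.ι n) ≅ B.left :=
    (MorphismProperty.Over.forget FEt.prop.{u} ⊤ (𝔛.X n) ⋙ Over.forget _).mapIso e
  refine ⟨C, e'.inv ≫ pullback.fst _ _, ?_⟩
  refine (IsPullback.of_hasPullback C.hom (𝔛.ι n)).of_iso e' (Iso.refl _) (Iso.refl _) (Iso.refl _)
    ?_ ?_ (by simp) (by simp)
  · simp
  · simp [e']; rfl

/-- The tower of covers over a cover of the smallest level. -/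
noncomputable def tower (h𝔛 : 𝔛.IsFormal) (B : FEt.Cat (𝔛.X 0)) : ∀ n, FEt.Cat (𝔛.X n)
  | 0 => B
  | n + 1 => (exists_succ h𝔛 n (tower h𝔛 B n)).choose

/-- The transition maps of the tower. -/
noncomputable def towerι (h𝔛 : 𝔛.IsFormal) (B : FEt.Cat (𝔛.X 0)) (n : ℕ) :
    (tower h𝔛 B n).left ⟶ (tower h𝔛 B (n + 1)).left :=
  (exists_succ h𝔛 n (tower h𝔛 B n)).choose_spec.choose

theorem isPullback_towerι (h𝔛 : 𝔛.IsFormal) (B : FEt.Cat (𝔛.X 0)) (n : ℕ) :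
    IsPullback (towerι h𝔛 B n) (tower h𝔛 B n).hom (tower h𝔛 B (n + 1)).hom (𝔛.ι n) :=
  (exists_succ h𝔛 n (tower h𝔛 B n)).choose_spec.choose_spec

theorem essSurj (h𝔛 : 𝔛.IsFormal) : (FSch.EtCov.level 𝔛 0).EssSurj := ⟨fun B ↦ by
  let S : FSch.Sys.{u} := ⟨fun n ↦ (tower h𝔛 B n).left, towerι h𝔛 B⟩
  let h : S ⟶ 𝔛 := ⟨fun n ↦ (tower h𝔛 B n).hom, fun n ↦ (isPullback_towerι h𝔛 B n).w.symm⟩
  have hh : FSch.IsEtaleCover h :=
    ⟨fun n ↦ isPullback_towerι h𝔛 B n, fun n ↦ (tower h𝔛 B n).prop⟩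
  exact ⟨⟨Over.mk h, hh⟩, ⟨MorphismProperty.Over.isoMk (Iso.refl _) (by simp; rfl)⟩⟩⟩

theorem isEquivalence (h𝔛 : 𝔛.IsFormal) : (FSch.EtCov.level 𝔛 0).IsEquivalence :=
  have := full h𝔛
  have := faithful h𝔛
  have := essSurj h𝔛
  { }

end Groth.FSchEtCov
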